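import Cfsg.Prelude.Def_EvenType
import Cfsg.Prelude.Def_CaseTheorems
import Cfsg.Agent.Lib.Symplectic.Basic

/-!
Elementary abelian 2-subgroups of matrix groups in odd characteristic: common eigenbases; the 2-ranks
of SL_m and Sp_{2n}.
-/

set_option autoImplicit false

namespace Cfsg.Agent.TwoRank

open Matrix

variable {F : Type*} [Field F] {ι : Type*} [Fintype ι] [DecidableEq ι]

theorem span_signed_eq_top (h2 : (2 : F) ≠ 0) {κ : Type*} (f : κ → Matrix ι ι F)
    (hsq : ∀ a, f a * f a = 1) (hc : ∀ a b, f a * f b = f b * f a) (S : Finset κ) :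
    Submodule.span F {v : ι → F | ∀ a ∈ S, f a *ᵥ v = v ∨ f a *ᵥ v = -v} = ⊤ := by
  classical
  induction S using Finset.induction_on with
  | empty => simp
  | @insert a S ha ih =>
    rw [eq_top_iff, ← ih, Submodule.span_le]
    intro v hv
    have key : ∀ w : ι → F, (f a *ᵥ w = w ∨ f a *ᵥ w = -w) →
        (∀ b ∈ S, f b *ᵥ w = w ∨ f b *ᵥ w = -w) → w ∈ Submodule.span F {v : ι → F | ∀ b ∈ insert a S, f b *ᵥ v = v ∨ f b *ᵥ v = -v} :=
      fun w h1 h3 => Submodule.subset_span fun b hb => by
        rcases Finset.mem_insert.1 hb with rfl | hb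
        · exact h1
        · exact h3 b hb
    have hv2 : v = (2 : F)⁻¹ • (v + f a *ᵥ v) + (2 : F)⁻¹ • (v - f a *ᵥ v) := by
      rw [← smul_add, add_add_sub_cancel, ← two_smul F v, smul_smul, inv_mul_cancel₀ h2, one_smul]
    rw [hv2]
    refine add_mem (Submodule.smul_mem _ _ (key _ (Or.inl ?_) fun b hb => ?_))
      (Submodule.smul_mem _ _ (key _ (Or.inr ?_) fun b hb => ?_))
    · rw [mulVec_add, mulVec_mulVec, hsq, one_mulVec, add_comm]
    · rcases hv b hb with h | h
      · left; rw [mulVec_add, mulVec_mulVec, hc, ← mulVec_mulVec, h]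
      · right; rw [mulVec_add, mulVec_mulVec, hc, ← mulVec_mulVec, h, mulVec_neg, neg_add]
    · rw [mulVec_sub, mulVec_mulVec, hsq, one_mulVec, neg_sub]
    · rcases hv b hb with h | h
      · left; rw [mulVec_sub, mulVec_mulVec, hc, ← mulVec_mulVec, h]
      · right; rw [mulVec_sub, mulVec_mulVec, hc, ← mulVec_mulVec, h, mulVec_neg, neg_sub, sub_eq_add_neg, neg_neg, add_comm, ← sub_eq_add_neg]

/-- Commuting involutory matrices have a common eigenbasis with eigenvalues `±1`. -/
theorem exists_eigenbasis (h2 : (2 : F) ≠ 0) {κ : Type*} [Finite κ] (f : κ → Matrix ι ι F)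
    (hsq : ∀ a, f a * f a = 1) (hc : ∀ a b, f a * f b = f b * f a) :
    ∃ (b : Module.Basis ι F (ι → F)) (s : κ → ι → F), (∀ a i, f a *ᵥ b i = s a i • b i) ∧
      (∀ a i, s a i = 1 ∨ s a i = -1) ∧ ∀ a, (f a).det = ∏ i, s a i := by
  classical
  have := Fintype.ofFinite κ
  set S : Set (ι → F) := {v | ∀ a ∈ (Finset.univ : Finset κ), f a *ᵥ v = v ∨ f a *ᵥ v = -v}
  obtain ⟨b', hb', hspan, hli⟩ := exists_linearIndependent F S
  rw [span_signed_eq_top h2 f hsq hc] at hspan
  let B := Module.Basis.mk hli (by rw [Subtype.range_coe_subtype]; simp [hspan])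
  have : Finite b' := Module.Finite.finite_basis B
  have hcard : Nat.card b' = Fintype.card ι := by
    rw [← Module.finrank_eq_nat_card_basis B, Module.finrank_fintype_fun_eq_card]
  have := Fintype.ofFinite b'
  let e : b' ≃ ι := Fintype.equivOfCardEq (by rw [← Nat.card_eq_fintype_card, hcard])
  let b := B.reindex e
  have hbS : ∀ i, b i ∈ S := fun i => hb' (by simp [b, B])
  refine ⟨b, fun a i => if f a *ᵥ b i = b i then 1 else -1, fun a i => ?_, fun a i => ?_, fun a => ?_⟩
  · by_cases h : f a *ᵥ b i = b i
    · dsimp only; rw [if_pos h, one_smul, h]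
    · dsimp only; rw [if_neg h, neg_one_smul]
      exact (hbS i a (Finset.mem_univ _)).resolve_left h
  · by_cases h : f a *ᵥ b i = b i
    · exact Or.inl (if_pos h)
    · exact Or.inr (if_neg h)
  · have hmat : LinearMap.toMatrix b b (Matrix.toLin' (f a)) =
        Matrix.diagonal fun i => if f a *ᵥ b i = b i then 1 else -1 := by
      ext i j
      rw [LinearMap.toMatrix_apply, Matrix.toLin'_apply, Matrix.diagonal_apply]
      by_cases h : f a *ᵥ b j = b j
      · rw [h, b.repr_self, Finsupp.single_apply]
        by_cases hij : j = i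
        · subst hij; simp [h]
        · simp [hij, Ne.symm hij]
      · rw [(hbS j a (Finset.mem_univ _)).resolve_left h, map_neg, b.repr_self, Finsupp.neg_apply, Finsupp.single_apply]
        by_cases hij : j = i
        · subst hij; simp [h]
        · simp [hij, Ne.symm hij]
    rw [← LinearMap.det_toLin', ← LinearMap.det_toMatrix b, hmat, Matrix.det_diagonal]

theorem eq_of_eigen {κ : Type*} (f : κ → Matrix ι ι F) (b : Module.Basis ι F (ι → F)) (s : κ → ι → F)
    (hs : ∀ a i, f a *ᵥ b i = s a i • b i) {a a' : κ} (h : ∀ i, s a i = s a' i) : f a = f a' := by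
  refine Matrix.toLin'.injective (b.ext fun i => ?_)
  rw [Matrix.toLin'_apply, Matrix.toLin'_apply, hs, hs, h]

/-- Number of sign functions. -/
theorem card_le_two_pow {κ : Type*} {σ : Type*} [Finite σ] (t : κ → σ → F)
    (ht : ∀ a i, t a i = 1 ∨ t a i = -1) (hinj : Function.Injective t) :
    Nat.card κ ≤ 2 ^ Nat.card σ := by
  classical
  refine (Nat.card_le_card_of_injective (fun a i => decide (t a i = 1)) ?_).trans (by simp [Nat.card_fun])
  intro a a' h
  refine hinj (funext fun i => ?_)
  have hi : decide (t a i = 1) = decide (t a' i = 1) := congrFun h i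
  rw [decide_eq_decide] at hi
  rcases ht a i with h1 | h1 <;> rcases ht a' i with h1' | h1'
  · rw [h1, h1']
  · rw [h1, hi.1 h1]
  · rw [h1', hi.2 h1']
  · rw [h1, h1']

theorem two_ne_zero_of_odd [Fintype F] (hF : Odd (Fintype.card F)) : (2 : F) ≠ 0 :=
  Ring.two_ne_zero fun h => by
    have := (FiniteField.even_card_iff_char_two (F := F)).1 h
    rw [Nat.odd_iff] at hF
    omega

theorem sl_rank (hF : (2 : F) ≠ 0) [Fintype F] (m : ℕ) (hm : 1 ≤ m) :
    Cfsg.PRankAtLeast 2 (m - 1) (Matrix.SpecialLinearGroup (Fin m) F) ∧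
      Cfsg.PRankLE 2 (m - 1) (Matrix.SpecialLinearGroup (Fin m) F) := by
  classical
  obtain ⟨k, rfl⟩ := Nat.exists_eq_add_of_le' hm
  rw [Nat.add_sub_cancel]
  constructor
  · let v : (Fin k → ℤˣ) → Fin (k + 1) → F := fun x => Fin.cons (((∏ i, x i : ℤˣ) : ℤ) : F) (fun i => ((x i : ℤ) : F))
    have hv : ∀ x, ∏ i, v x i = 1 := by
      intro x
      rw [Fin.prod_univ_succ]
      simp only [v, Fin.cons_zero, Fin.cons_succ]
      rw [← Int.cast_prod, ← Units.coe_prod, ← Int.cast_mul, ← Units.val_mul, Int.units_mul_self]
      simp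
    let φ : (Fin k → ℤˣ) →* Matrix.SpecialLinearGroup (Fin (k + 1)) F :=
      MonoidHom.mk' (fun x => (⟨diagonal (v x), by rw [det_diagonal, hv]⟩ : Matrix.SpecialLinearGroup (Fin (k + 1)) F)) (fun x y => Subtype.ext (by
        show diagonal (v (x * y)) = diagonal (v x) * diagonal (v y)
        rw [diagonal_mul_diagonal]
        congr 1; funext i
        cases i using Fin.cases <;> simp [v, Finset.prod_mul_distrib]))
    have hinj : Function.Injective φ := by
      intro x y h
      funext i
      have := congrArg (fun z : Matrix.SpecialLinearGroup (Fin (k + 1)) F => z.1 i.succ i.succ) h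
      change diagonal (v x) i.succ i.succ = diagonal (v y) i.succ i.succ at this
      simp only [diagonal_apply_eq, v, Fin.cons_succ] at this
      rcases Int.units_eq_one_or (x i) with hx | hx <;> rcases Int.units_eq_one_or (y i) with hy | hy <;>
        rw [hx, hy] at this ⊢ <;> simp at this ⊢
      · exact hF (by linear_combination this)
      · exact hF (by linear_combination (-1 : F) * this)
    refine ⟨φ.range, inferInstance, ?_, ?_⟩
    · rintro _ ⟨x, rfl⟩
      rw [← map_pow]
      convert map_one φ
      funext i; exact Int.units_sq _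
    · rw [Nat.card_congr (MonoidHom.ofInjective hinj).toEquiv.symm]
      simp [Nat.card_fun, Nat.card_eq_fintype_card]
  · intro A hA hexp
    have := hA
    obtain ⟨b, s, hs, hpm, hdet⟩ := exists_eigenbasis hF (fun a : A => (a.1.1))
      (fun a => by
        have := congrArg Subtype.val (hexp a.1 a.2)
        rwa [sq] at this)
      (fun a a' => congrArg (fun z : A => z.1.1) (mul_comm' a a'))
    refine (card_le_two_pow (F := F) (fun (a : A) (i : Fin k) => s a i.succ) (fun a i => hpm a _) ?_).trans (by simp)
    intro a a' h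
    refine Subtype.ext (Subtype.ext (eq_of_eigen (fun a : A => a.1.1) b s hs fun i => ?_))
    have h' : ∀ i : Fin k, s a i.succ = s a' i.succ := fun i => congrFun h i
    cases i using Fin.cases with
    | succ i => exact h' i
    | zero =>
      have e1 := hdet a
      have e2 := hdet a'
      simp only [Matrix.SpecialLinearGroup.det_coe, Fin.prod_univ_succ] at e1 e2
      have hne : ∏ i : Fin k, s a' i.succ ≠ 0 := fun h0 => by rw [h0, mul_zero] at e2; exact one_ne_zero e2
      rw [Finset.prod_congr rfl fun i _ => h' i] at e1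
      exact mul_right_cancel₀ hne (e1.symm.trans e2)

theorem sp_rank (hF : (2 : F) ≠ 0) [Fintype F] (n : ℕ) :
    Cfsg.PRankAtLeast 2 n (Matrix.symplecticGroup (Fin n) F) ∧ Cfsg.PRankLE 2 n (Matrix.symplecticGroup (Fin n) F) := by
  classical
  constructor
  · let v : (Fin n → ℤˣ) → (Fin n ⊕ Fin n) → F := fun x => Sum.elim (fun i => ((x i : ℤ) : F)) (fun i => ((x i : ℤ) : F))
    have hmem : ∀ x, diagonal (v x) ∈ Matrix.symplecticGroup (Fin n) F := by
      intro x
      refine (Symplectic.mem_iff_form _).2 fun u w => ?_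
      simp only [Symplectic.sympForm_eq_sum, mulVec_diagonal, v, Sum.elim_inl, Sum.elim_inr]
      refine Finset.sum_congr rfl fun i _ => ?_
      rcases Int.units_eq_one_or (x i) with hx | hx <;> rw [hx] <;> simp
    let φ : (Fin n → ℤˣ) →* Matrix.symplecticGroup (Fin n) F :=
      MonoidHom.mk' (fun x => ⟨diagonal (v x), hmem x⟩) (fun x y => Subtype.ext (by
        show diagonal (v (x * y)) = diagonal (v x) * diagonal (v y)
        rw [diagonal_mul_diagonal]
        congr 1; funext i
        rcases i with i | i <;> simp [v]))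
    have hinj : Function.Injective φ := by
      intro x y h
      funext i
      have := congrArg (fun z : Matrix.symplecticGroup (Fin n) F => z.1 (Sum.inl i) (Sum.inl i)) h
      change diagonal (v x) (Sum.inl i) (Sum.inl i) = diagonal (v y) (Sum.inl i) (Sum.inl i) at this
      simp only [diagonal_apply_eq, v, Sum.elim_inl] at this
      rcases Int.units_eq_one_or (x i) with hx | hx <;> rcases Int.units_eq_one_or (y i) with hy | hy <;>
        rw [hx, hy] at this ⊢ <;> simp at this ⊢
      · exact hF (by linear_combination this)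
      · exact hF (by linear_combination (-1 : F) * this)
    refine ⟨φ.range, inferInstance, ?_, ?_⟩
    · rintro _ ⟨x, rfl⟩
      rw [← map_pow]
      convert map_one φ
      funext i; exact Int.units_sq _
    · rw [Nat.card_congr (MonoidHom.ofInjective hinj).toEquiv.symm]
      simp [Nat.card_fun, Nat.card_eq_fintype_card]
  · intro A hA hexp
    have := hA
    obtain ⟨b, s, hs, hpm, -⟩ := exists_eigenbasis hF (fun a : A => (a.1.1))
      (fun a => by
        have := congrArg Subtype.val (hexp a.1 a.2)
        rwa [sq] at this)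
      (fun a a' => congrArg (fun z : A => z.1.1) (mul_comm' a a'))
    let χ : (Fin n ⊕ Fin n) → A → F := fun i a => s a i
    have horth : ∀ i j, χ i ≠ χ j → Cfsg.sympForm n F (b i) (b j) = 0 := by
      intro i j hij
      obtain ⟨a, ha⟩ := Function.ne_iff.1 hij
      have h := (Symplectic.mem_iff_form a.1.1).1 a.1.2 (b i) (b j)
      rw [hs, hs, Symplectic.sympForm_smul_left, Symplectic.sympForm_smul_right, ← mul_assoc] at h
      have : s a i * s a j = -1 := by
        rcases hpm a i with e1 | e1 <;> rcases hpm a j with e2 | e2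
        · exact absurd (e1.trans e2.symm) ha
        · rw [e1, e2, one_mul]
        · rw [e1, e2, mul_one]
        · exact absurd (e1.trans e2.symm) ha
      rw [this] at h
      exact mul_left_cancel₀ hF (by linear_combination -h)
    have htwo : ∀ i, ∃ j, j ≠ i ∧ χ j = χ i := by
      intro i
      by_contra hcon
      push Not at hcon
      refine b.ne_zero i ?_
      have hlin : ∀ w, Cfsg.sympForm n F (b i) w = 0 := by
        intro w
        let L : (Fin n ⊕ Fin n → F) →ₗ[F] F :=
          { toFun := fun w => Cfsg.sympForm n F (b i) w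
            map_add' := fun u v => Symplectic.sympForm_add_right _ u v
            map_smul' := fun c v => Symplectic.sympForm_smul_right c _ v }
        have : L = 0 := b.ext fun j => by
          by_cases hj : j = i
          · subst hj; exact Symplectic.sympForm_self _
          · exact horth i j (Ne.symm (hcon j hj))
        exact congrArg (fun l : _ →ₗ[F] F => l w) this
      funext k
      rcases k with k | k
      · have := hlin (Pi.single (Sum.inr k) 1)
        simpa [Symplectic.sympForm_eq_sum, Pi.single_apply] using this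
      · have := hlin (Pi.single (Sum.inl k) 1)
        simpa [Symplectic.sympForm_eq_sum, Pi.single_apply] using this
    set R := (Finset.univ : Finset (Fin n ⊕ Fin n)).image χ with hR
    have hRn : R.card ≤ n := by
      have h := Finset.mul_card_image_le_card (s := (Finset.univ : Finset (Fin n ⊕ Fin n))) (f := χ) (n := 2) ?_
      · simp only [Finset.card_univ, Fintype.card_sum, Fintype.card_fin] at h
        rw [← hR] at h; omega
      · intro c hc
        obtain ⟨i, -, rfl⟩ := Finset.mem_image.1 hc
        obtain ⟨j, hji, hj⟩ := htwo i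
        exact Finset.one_lt_card.2 ⟨i, by simp, j, by simp [hj], hji.symm⟩
    refine (card_le_two_pow (F := F) (fun (a : A) (c : R) => c.1 a) (fun a c => ?_) ?_).trans
      (Nat.pow_le_pow_right (by norm_num) (by simpa using hRn))
    · obtain ⟨i, -, hi⟩ := Finset.mem_image.1 c.2
      rw [← hi]; exact hpm a i
    · intro a a' h
      refine Subtype.ext (Subtype.ext (eq_of_eigen (fun a : A => a.1.1) b s hs fun i => ?_))
      exact congrFun h ⟨χ i, Finset.mem_image_of_mem _ (Finset.mem_univ i)⟩

end Cfsg.Agent.TwoRank
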